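import Groth.Agent.GrpSch.K270.MB.Shape3
import Groth.Agent.GrpSch.K267.TorsFin

/-!
# The torsion of a semi-stable group scheme is flat
-/

set_option autoImplicit false

universe u

open CategoryTheory CategoryTheory.Limits MonoidalCategory CartesianMonoidalCategory MonObj GrpObj
  AlgebraicGeometry

namespace K554.FlatTors

open Groth.Agent Groth.Agent.Sga3B.KerGrp K267 K270.MB

theorem main : NodeFlatTors.{u} := by
  intro R _ _ A _ _ hs hsep hqc hA N hN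
  have i0 : IsMonHom ((𝟙 A : A ⟶ A) ^ N) := SemiPow.isMonHom_pow A N
  obtain ⟨i1, -⟩ := SemiPow.flat_lqf_pow A hA N hN
  obtain ⟨hg, i3⟩ := exists_grpObj ((𝟙 A : A ⟶ A) ^ N)
  have i4 : IsClosedImmersion (kerι ((𝟙 A : A ⟶ A) ^ N)).left := inferInstance
  have sq := (isPullback_ker ((𝟙 A : A ⟶ A) ^ N)).map (Over.forget _)
  have e1 : (kerObj ((𝟙 A : A ⟶ A) ^ N)).hom = (toUnit (kerObj ((𝟙 A : A ⟶ A) ^ N))).left := by
    rw [← Over.w (toUnit (kerObj ((𝟙 A : A ⟶ A) ^ N)))]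
    exact (Category.comp_id _)
  have j2 : Flat (kerObj ((𝟙 A : A ⟶ A) ^ N)).hom := by
    rw [e1]; exact MorphismProperty.of_isPullback (P := @Flat) sq i1
  refine ⟨kerObj ((𝟙 A : A ⟶ A) ^ N), hg, kerι ((𝟙 A : A ⟶ A) ^ N), ⟨i3, i4⟩, j2, fun {T} x => ⟨?_, fun hx => ?_⟩⟩
  · rintro ⟨y, rfl⟩
    rw [← TorsFin.comp_one_pow, Category.assoc, kerι_comp, MonObj.comp_one]
  · exact exists_lift ((𝟙 A : A ⟶ A) ^ N) x (by rw [TorsFin.comp_one_pow, hx])

end K554.FlatTors
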